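import Groth.Agent.HyperCILib.Member
import Groth.Agent.CILib.GlobalCI
import Groth.Agent.H1LCILib.Basic
import Groth.Agent.CMGraded.GradedDim
import Groth.Agent.RegLocal.Basic
import Groth.Agent.S2663

/-! Smooth complete intersections of general forms. -/

set_option autoImplicit false
set_option linter.style.haveILetI false
set_option backward.isDefEq.respectTransparency false
set_option maxHeartbeats 1000000

universe u

open MvPolynomial

namespace Groth.Agent.HyperCILib

variable {k : Type u} [Field k] {m : ℕ}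

/-- The vertex of the cone. -/
noncomputable abbrev vertex : Ideal (MvPolynomial (Fin m) k) :=
  RingHom.ker (constantCoeff : MvPolynomial (Fin m) k →+* k)

theorem vertex_isMaximal : (vertex (k := k) (m := m)).IsMaximal :=
  RingHom.ker_isMaximal_of_surjective _ fun a => ⟨C a, constantCoeff_C _ a⟩

theorem X_mem_vertex (j : Fin m) : (X j : MvPolynomial (Fin m) k) ∈ vertex := by
  simp [vertex, RingHom.mem_ker]

theorem vertex_le_of_X_mem {P : Ideal (MvPolynomial (Fin m) k)} (h : ∀ j, X j ∈ P) : vertex ≤ P := by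
  intro f hf
  have key : ∀ f : MvPolynomial (Fin m) k, f - C (constantCoeff f) ∈ P := by
    intro f
    induction f using MvPolynomial.induction_on with
    | C r => simp
    | add p q hp hq =>
      have := P.add_mem hp hq
      rw [show p + q - C (constantCoeff (p + q)) = p - C (constantCoeff p) + (q - C (constantCoeff q)) by
        rw [map_add, map_add]; ring]
      exact this
    | mul_X p i hp => simpa using P.mul_mem_left p (h i)
  have := key f
  rwa [show constantCoeff f = 0 from hf, map_zero, sub_zero] at this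

theorem vertex_height : (vertex (k := k) (m := m)).height = m := by
  haveI := vertex_isMaximal (k := k) (m := m)
  obtain ⟨a, t, ha, ht, hat⟩ := CILib.height_add_trdeg_mvPolynomial (k := k) (vertex (k := k) (m := m))
  rw [CILib.trdeg_eq_zero_of_isMaximal] at ht
  have ht0 : t = 0 := by exact_mod_cast ht.symm
  rw [ha, show a = m by omega]

theorem height_le (P : Ideal (MvPolynomial (Fin m) k)) [P.IsPrime] : P.height ≤ m := by
  obtain ⟨a, t, ha, -, hat⟩ := CILib.height_add_trdeg_mvPolynomial (k := k) P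
  rw [ha]; exact_mod_cast (by omega : a ≤ m)

theorem mem_vertex_of_isHomogeneous {d : ℕ} {f : MvPolynomial (Fin m) k} (hf : f.IsHomogeneous d) (hd : 0 < d) :
    f ∈ vertex := by
  show constantCoeff f = 0
  rw [constantCoeff_eq]
  by_contra h
  have := hf h
  simp at this
  omega

/-- A prime of small height misses some variable. -/
theorem exists_X_notMem {P : Ideal (MvPolynomial (Fin m) k)} [P.IsPrime] {i : ℕ} (hP : P.height ≤ i) (hi : i < m) :
    ∃ j, X j ∉ P := by
  by_contra h
  push Not at h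
  have h1 := Ideal.height_mono (vertex_le_of_X_mem h)
  rw [vertex_height] at h1
  have : (m : ℕ∞) ≤ i := h1.trans hP
  norm_cast at this
  omega

/-- A linear condition on the coefficients forcing a form out of a given prime. -/
theorem exists_avoid [IsAlgClosed k] (P : Ideal (MvPolynomial (Fin m) k)) [P.IsPrime] (j : Fin m) (hj : X j ∉ P) (d : ℕ) :
    ∃ g : MvPolynomial (Fin d → Fin m) k, g ≠ 0 ∧ ∀ c, MvPolynomial.eval c g ≠ 0 → form d c ∉ P := by
  classical
  obtain ⟨M, hM, hPM, hjM⟩ : ∃ M : Ideal (MvPolynomial (Fin m) k), M.IsMaximal ∧ P ≤ M ∧ X j ∉ M := by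
    by_contra hcon
    push Not at hcon
    refine hj ?_
    rw [← (IsJacobsonRing.out inferInstance (Ideal.IsPrime.isRadical ‹P.IsPrime›) : P.jacobson = P), Ideal.jacobson, Ideal.mem_sInf]
    exact fun M hM => hcon M hM.2 hM.1
  have hk := surjective_algebraMap_quot (k := k) M
  choose p hp using fun l => hk (Ideal.Quotient.mk M (X l))
  have hev : ∀ f, Ideal.Quotient.mk M f = algebraMap k _ (MvPolynomial.eval p f) := by
    intro f
    induction f using MvPolynomial.induction_on with
    | C r => rw [eval_C]; rfl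
    | add a b ha hb => rw [map_add, map_add, map_add, ha, hb]
    | mul_X a l ha => rw [map_mul, map_mul, map_mul, eval_X, ha, hp]
  have hpj : p j ≠ 0 := fun h => hjM (Ideal.Quotient.eq_zero_iff_mem.1 (by rw [← hp, h, map_zero]))
  refine ⟨∑ a, C (MvPolynomial.eval p (mono d a)) * X a, ?_, fun c hc hf => hc ?_⟩
  · intro h
    have h1 := congrArg (MvPolynomial.eval fun a => if a = (fun _ => j) then (1 : k) else 0) h
    rw [map_sum, map_zero, Finset.sum_eq_single (fun _ => j)] at h1
    · rw [map_mul, eval_C, eval_X, if_pos rfl, mul_one, mono, map_prod] at h1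
      simp only [eval_X, Finset.prod_const] at h1
      exact hpj (eq_zero_of_pow_eq_zero h1)
    · intro b _ hb; rw [map_mul, eval_X, if_neg hb, mul_zero]
    · intro h; exact absurd (Finset.mem_univ _) h
  · have h1 := hev (form d c)
    rw [Ideal.Quotient.eq_zero_iff_mem.2 (hPM hf)] at h1
    haveI : Nontrivial (MvPolynomial (Fin m) k ⧸ M) := Ideal.Quotient.nontrivial_iff.2 hM.ne_top
    rw [eq_comm, map_eq_zero_iff _ (algebraMap k (MvPolynomial (Fin m) k ⧸ M)).injective] at h1
    rw [← h1, form, map_sum, map_sum]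
    exact Finset.sum_congr rfl fun a _ => by rw [map_mul, map_mul, eval_C, eval_C, eval_X, mul_comm]

/-- General forms: smooth slices and the expected height. -/
theorem exists_forms [IsAlgClosed k] : ∀ (i : ℕ), i < m → ∀ (d : Fin i → ℕ), (∀ l, 0 < d l) →
    ∃ f : Fin i → MvPolynomial (Fin m) k, (∀ l, (f l).IsHomogeneous (d l)) ∧
      (∀ l j, Algebra.Smooth k (MvPolynomial (Fin m) k ⧸ sliceIdeal (Ideal.span {f l}) j)) ∧
      (∀ j, Algebra.Smooth k (MvPolynomial (Fin m) k ⧸ sliceIdeal (Ideal.span (Set.range f)) j)) ∧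
      ∀ P ∈ (Ideal.span (Set.range f)).minimalPrimes, P.height = i := by
  classical
  intro i
  induction i with
  | zero =>
    intro _ d _
    have h0 : ∀ f : Fin 0 → MvPolynomial (Fin m) k, Ideal.span (Set.range f) = ⊥ := fun f => by
      rw [Set.range_eq_empty, Ideal.span_empty]
    refine ⟨Fin.elim0, fun l => l.elim0, fun l => l.elim0, fun j => ?_, fun P hP => ?_⟩
    · rw [h0]; exact smooth_slice_bot j
    · rw [h0] at hP
      have hP' : P = ⊥ := le_bot_iff.1 (hP.2 ⟨Ideal.bot_prime, le_rfl⟩ bot_le)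
      rw [hP']
      simp
  | succ i ih =>
    intro hi d hd
    obtain ⟨f0, hf0, hs0, hS0, hP0⟩ := ih (by omega) (fun l => d l.castSucc) fun l => hd _
    let I := Ideal.span (Set.range f0)
    let e := d (Fin.last i)
    haveI := hS0
    choose gI hgI0 hgI using fun j => @exists_slice_member k _ m _ I j (hS0 j) e (hd _)
    choose gB hgB0 hgB using fun j => @exists_slice_member k _ m _ ⊥ j (smooth_slice_bot j) e (hd _)
    have hfin : I.minimalPrimes.Finite := Ideal.finite_minimalPrimes_of_isNoetherianRing _ I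
    haveI : Fintype I.minimalPrimes := hfin.fintype
    have havoid : ∀ P : I.minimalPrimes, ∃ g : MvPolynomial (Fin e → Fin m) k, g ≠ 0 ∧
        ∀ c, MvPolynomial.eval c g ≠ 0 → form e c ∉ (P : Ideal _) := fun P => by
      haveI : (P : Ideal (MvPolynomial (Fin m) k)).IsPrime := P.2.1.1
      obtain ⟨j, hj⟩ := exists_X_notMem (hP0 _ P.2).le (by omega)
      exact exists_avoid _ j hj e
    choose gP hgP0 hgP using havoid
    obtain ⟨c, hc⟩ : ∃ c, MvPolynomial.eval c ((∏ j, gI j) * (∏ j, gB j) * ∏ P, gP P) ≠ 0 := by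
      by_contra h
      push Not at h
      have := MvPolynomial.funext (p := (∏ j, gI j) * (∏ j, gB j) * ∏ P, gP P) (q := 0) (by simpa using h)
      simp [Finset.prod_ne_zero_iff, hgI0, hgB0, hgP0, Finset.prod_eq_zero_iff] at this
    simp only [map_mul, map_prod, mul_ne_zero_iff, Finset.prod_ne_zero_iff] at hc
    obtain ⟨⟨hcI, hcB⟩, hcP⟩ := hc
    let F := form (k := k) (m := m) e c
    have hFI : ∀ P ∈ I.minimalPrimes, F ∉ P := fun P hP => hgP ⟨P, hP⟩ c (hcP _ (Finset.mem_univ _))
    let f : Fin (i + 1) → MvPolynomial (Fin m) k := Fin.snoc f0 F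
    have hspan : Ideal.span (Set.range f) = I ⊔ Ideal.span {F} := by
      show Ideal.span (Set.range (Fin.snoc f0 F)) = _
      rw [Fin.range_snoc, Ideal.span_insert, sup_comm]
    refine ⟨f, fun l => ?_, fun l j => ?_, fun j => ?_, fun P hP => ?_⟩
    · refine Fin.lastCases ?_ (fun l => ?_) l
      · simp only [f, Fin.snoc_last]; exact form_isHomogeneous e c
      · simp only [f, Fin.snoc_castSucc]; exact hf0 l
    · refine Fin.lastCases ?_ (fun l => ?_) l
      · have := hgB j c (hcB _ (Finset.mem_univ _))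
        rw [bot_sup_eq] at this
        rwa [show f (Fin.last i) = form e c from Fin.snoc_last ..]
      · rw [show f l.castSucc = f0 l from Fin.snoc_castSucc ..]; exact hs0 l j
    · rw [hspan]; exact hgI j c (hcI _ (Finset.mem_univ _))
    · haveI : P.IsPrime := hP.1.1
      apply le_antisymm
      · refine (Ideal.height_le_card_of_mem_minimalPrimes_span (Set.finite_range f) hP).trans ?_
        have : (Set.range f).ncard ≤ i + 1 := by
          have h := Set.ncard_image_le (f := f) (Set.finite_univ : (Set.univ : Set (Fin (i + 1))).Finite)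
          rwa [Set.image_univ, Set.ncard_univ, Nat.card_eq_fintype_card, Fintype.card_fin] at h
        exact_mod_cast this
      · rw [hspan] at hP
        obtain ⟨P0, hP0m, hP0le⟩ := Ideal.exists_minimalPrimes_le (le_sup_left.trans hP.1.2)
        haveI : P0.IsPrime := hP0m.1.1
        have hlt : P0 < P := lt_of_le_of_ne hP0le fun h => hFI P0 hP0m
          (h ▸ hP.1.2 (Ideal.mem_sup_right (Ideal.mem_span_singleton_self F)))
        have := Ideal.height_add_one_le_of_lt_of_isPrime hlt
        rw [hP0 P0 hP0m] at this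
        simpa using this

theorem dim_quotient_le {I : Ideal (MvPolynomial (Fin m) k)} {r : ℕ} (h : ∀ P ∈ I.minimalPrimes, P.height = r) :
    ringKrullDim (MvPolynomial (Fin m) k ⧸ I) ≤ ((m - r : ℕ) : WithBot ℕ∞) := by
  refine iSup_le fun s => ?_
  let P := fun i => (s i).asIdeal.comap (Ideal.Quotient.mk I)
  have key : ∀ (i : ℕ) (hi : i < s.length + 1), ((r + i : ℕ) : ℕ∞) ≤ (P ⟨i, hi⟩).height := by
    intro i
    induction i with
    | zero =>
      intro hi
      haveI : (P ⟨0, hi⟩).IsPrime := Ideal.IsPrime.comap _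
      have hle : I ≤ P ⟨0, hi⟩ := by
        intro x hx
        show Ideal.Quotient.mk I x ∈ (s ⟨0, hi⟩).asIdeal
        rw [Ideal.Quotient.eq_zero_iff_mem.2 hx]
        exact zero_mem _
      obtain ⟨Q, hQ, hQle⟩ := Ideal.exists_minimalPrimes_le hle
      simpa [h Q hQ] using Ideal.height_mono hQle
    | succ i ih =>
      intro hi
      haveI : (P ⟨i, by omega⟩).IsPrime := Ideal.IsPrime.comap _
      haveI : (P ⟨i + 1, hi⟩).IsPrime := Ideal.IsPrime.comap _
      have hlt : P ⟨i, by omega⟩ < P ⟨i + 1, hi⟩ :=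
        lt_of_le_of_ne (Ideal.comap_mono (s.step ⟨i, by omega⟩).le) fun h => (s.step ⟨i, by omega⟩).ne
          (PrimeSpectrum.ext (Ideal.comap_injective_of_surjective _ Ideal.Quotient.mk_surjective h))
      refine le_trans ?_ (Ideal.height_add_one_le_of_lt_of_isPrime hlt)
      rw [show r + (i + 1) = r + i + 1 by omega, Nat.cast_add, Nat.cast_one]
      exact add_le_add (ih (by omega)) le_rfl
  haveI : (P (Fin.last _)).IsPrime := Ideal.IsPrime.comap _
  have hb := (key s.length (Nat.lt_succ_self _)).trans (height_le (P (Fin.last _)))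
  have : r + s.length ≤ m := by exact_mod_cast hb
  exact_mod_cast (by omega : s.length ≤ m - r)

/-- A Cohen--Macaulay ring with one singular point `V`, of height `≥ 2`, on every component, is a domain. -/
theorem isDomain_of_punctured {R : Type u} [CommRing R] [IsNoetherianRing R] [LocCoh.IsCohenMacaulayRing R]
    (V : Ideal R) [hVm : V.IsMaximal] (hVh : (2 : ℕ∞) ≤ V.height)
    (hmin : ∀ p ∈ minimalPrimes R, p ≤ V ∧ p ≠ V)
    (hreg' : ∀ (q : Ideal R) [q.IsPrime], q ≠ V → IsRegularLocalRing (Localization.AtPrime q)) : IsDomain R := by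
  classical
  -- depth at the vertex
  have hdepth : ∀ (p : Ideal R) [p.IsPrime], V ≤ p →
      (2 : ℕ∞) ≤ LocCoh.depth (Localization.AtPrime p) (Localization.AtPrime p) := by
    intro p hp hVp
    have hpV : V = p := hVm.eq_of_le hp.ne_top hVp
    have hd := (LocCoh.IsCohenMacaulayRing.isCohenMacaulayLocalRing_localization (R := R) p).supportDim_eq_depth
    rw [Module.supportDim_self_eq_ringKrullDim, IsLocalization.AtPrime.ringKrullDim_eq_height p] at hd
    rw [← WithBot.coe_inj.1 hd, ← hpV]
    exact hVh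
  -- connectedness
  let v : PrimeSpectrum R := ⟨V, hVm.isPrime⟩
  have hclo : ∀ U : Set (PrimeSpectrum R), IsClopen U → v ∈ U → U = Set.univ := by
    intro U hU hv
    refine Set.eq_univ_of_forall fun q => ?_
    obtain ⟨p, hp, hpq⟩ := Ideal.exists_minimalPrimes_le (bot_le : (⊥ : Ideal R) ≤ q.asIdeal)
    let p' : PrimeSpectrum R := ⟨p, hp.1.1⟩
    have h1 : p' ⤳ v := (PrimeSpectrum.le_iff_specializes _ _).1 (hmin p hp).1
    have h2 : p' ⤳ q := (PrimeSpectrum.le_iff_specializes _ _).1 hpq
    exact h2.mem_closed hU.1 (h1.mem_open hU.2 hv)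
  haveI : ConnectedSpace (PrimeSpectrum R) := by
    haveI : Nonempty (PrimeSpectrum R) := ⟨v⟩
    haveI : PreconnectedSpace (PrimeSpectrum R) := preconnectedSpace_iff_clopen.2 fun U hU => by
      by_cases hv : v ∈ U
      · exact Or.inr (hclo U hU hv)
      · exact Or.inl (Set.compl_univ_iff.1 (hclo _ hU.compl hv))
    exact ⟨inferInstance⟩
  have hpre := S2663.result R V fun p _ h => hdepth p h
  have hmem : ∀ q : PrimeSpectrum R, q ∈ (PrimeSpectrum.zeroLocus (V : Set R))ᶜ ↔ q.asIdeal ≠ V := fun q =>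
    ⟨fun h e => h (by rw [PrimeSpectrum.mem_zeroLocus, e]), fun h e => h
      (hVm.eq_of_le q.2.ne_top (PrimeSpectrum.mem_zeroLocus _ _ |>.1 e)).symm⟩
  -- one minimal prime below each punctured point
  have huniq : ∀ (q : PrimeSpectrum R), q.asIdeal ≠ V → ∀ p ∈ minimalPrimes R, p ≤ q.asIdeal →
      p = (⊥ : Ideal (Localization.AtPrime q.asIdeal)).comap (algebraMap _ _) := by
    intro q hq p hp hpq
    haveI := hreg' q.asIdeal hq
    haveI : IsDomain (Localization.AtPrime q.asIdeal) := RegLocal.isDomain _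
    haveI : (⊥ : Ideal (Localization.AtPrime q.asIdeal)).IsPrime := Ideal.bot_prime
    have hle : (⊥ : Ideal (Localization.AtPrime q.asIdeal)).comap (algebraMap R _) ≤ p := fun x hx => by
      rw [Ideal.mem_comap, Ideal.mem_bot,
        IsLocalization.map_eq_zero_iff q.asIdeal.primeCompl (Localization.AtPrime q.asIdeal)] at hx
      obtain ⟨s, hs⟩ := hx
      exact (hp.1.1.mem_or_mem (hs ▸ p.zero_mem)).resolve_left fun h => s.2 (hpq h)
    exact le_antisymm (hp.2 ⟨Ideal.IsPrime.comap _, bot_le⟩ hle) hle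
  obtain ⟨p0, hp0⟩ : (minimalPrimes R).Nonempty := by
    obtain ⟨p, hp, -⟩ := Ideal.exists_minimalPrimes_le (bot_le : (⊥ : Ideal R) ≤ V)
    exact ⟨p, hp⟩
  have hsingle : ∀ p ∈ minimalPrimes R, p = p0 := by
    by_contra hcon
    push Not at hcon
    obtain ⟨p1, hp1, hne⟩ := hcon
    haveI := hp0.1.1
    haveI := hp1.1.1
    let T' : Set (PrimeSpectrum R) :=
      ⋃ p ∈ {p ∈ minimalPrimes R | p ≠ p0}, PrimeSpectrum.zeroLocus (p : Set R)
    have hT' : IsClosed T' := ((minimalPrimes.finite_of_isNoetherianRing R).subset fun p hp => hp.1).isClosed_biUnion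
      fun p _ => PrimeSpectrum.isClosed_zeroLocus _
    obtain ⟨q, hqU, hq0, hqT⟩ := isPreconnected_closed_iff.1 hpre _ _ (PrimeSpectrum.isClosed_zeroLocus (p0 : Set R))
      hT' (fun q _ => by
        obtain ⟨p, hp, hpq⟩ := Ideal.exists_minimalPrimes_le (bot_le : (⊥ : Ideal R) ≤ q.asIdeal)
        by_cases h : p = p0
        · exact Or.inl (h ▸ hpq)
        · exact Or.inr (Set.mem_biUnion (show p ∈ {p ∈ minimalPrimes R | p ≠ p0} from ⟨hp, h⟩) hpq))
      ⟨⟨p0, hp0.1.1⟩, (hmem _).2 (hmin p0 hp0).2, fun x hx => hx⟩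
      ⟨⟨p1, hp1.1.1⟩, (hmem _).2 (hmin p1 hp1).2,
        Set.mem_biUnion (show p1 ∈ {p ∈ minimalPrimes R | p ≠ p0} from ⟨hp1, hne⟩) fun x hx => hx⟩
    obtain ⟨p, hp, hpq⟩ := Set.mem_iUnion₂.1 hqT
    exact hp.2 ((huniq q ((hmem q).1 hqU) p hp.1 hpq).trans (huniq q ((hmem q).1 hqU) p0 hp0 hq0).symm)
  have hbot : p0 = ⊥ := by
    rw [eq_bot_iff]
    intro c hc
    rw [Ideal.mem_bot]
    refine H1LCILib.eq_zero_of_killed (fun q hq => H1LCILib.assoc_minimal_of_cm hq) c fun q hq => ?_
    rw [hsingle q hq]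
    haveI := hp0.1.1
    let q0 : PrimeSpectrum R := ⟨p0, hp0.1.1⟩
    have h := huniq q0 (hmin p0 hp0).2 p0 hp0 le_rfl
    have hc0 : algebraMap R (Localization.AtPrime q0.asIdeal) c = 0 := by
      have : c ∈ (⊥ : Ideal (Localization.AtPrime q0.asIdeal)).comap (algebraMap R _) := h ▸ hc
      simpa using this
    obtain ⟨s, hs⟩ := (IsLocalization.map_eq_zero_iff q0.asIdeal.primeCompl _ c).1 hc0
    exact ⟨s, s.2, hs⟩
  haveI : Nontrivial R := ⟨0, 1, fun h => hVm.ne_top ((Ideal.eq_top_iff_one V).2 (h ▸ V.zero_mem))⟩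
  have hpr : (⊥ : Ideal R).IsPrime := hbot ▸ hp0.1.1
  exact IsDomain.of_bot_isPrime _

/-- The coordinate ring of a smooth complete intersection of dimension at least one is a domain. -/
theorem isDomain_quotient [IsAlgClosed k] {r : ℕ} (hr : r + 1 < m) (f : Fin r → MvPolynomial (Fin m) k)
    {d : Fin r → ℕ} (hf : ∀ l, (f l).IsHomogeneous (d l)) (hd : ∀ l, 0 < d l)
    (hP : ∀ P ∈ (Ideal.span (Set.range f)).minimalPrimes, P.height = r)
    (hreg : ∀ (Q : Ideal (MvPolynomial (Fin m) k ⧸ Ideal.span (Set.range f))) [Q.IsPrime],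
      (∃ j, Ideal.Quotient.mk (Ideal.span (Set.range f)) (X j) ∉ Q) → IsRegularLocalRing (Localization.AtPrime Q)) :
    IsDomain (MvPolynomial (Fin m) k ⧸ Ideal.span (Set.range f)) := by
  classical
  set I := Ideal.span (Set.range f) with hI
  let S := MvPolynomial (Fin m) k
  let mk := Ideal.Quotient.mk I
  have hIV : I ≤ vertex := Ideal.span_le.2 (by rintro _ ⟨l, rfl⟩; exact mem_vertex_of_isHomogeneous (hf l) (hd l))
  haveI := vertex_isMaximal (k := k) (m := m)
  let V := (vertex (k := k) (m := m)).map mk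
  haveI hVm : V.IsMaximal := (Ideal.map_eq_top_or_isMaximal_of_surjective mk Ideal.Quotient.mk_surjective
    (vertex_isMaximal (k := k) (m := m))).resolve_left fun h => by
      have : (vertex (k := k) (m := m)) = ⊤ := by
        rw [← Ideal.comap_map_of_surjective mk Ideal.Quotient.mk_surjective vertex |>.trans
          (sup_eq_left.2 (by rw [← RingHom.ker_eq_comap_bot, Ideal.mk_ker]; exact hIV))]
        show V.comap mk = ⊤
        rw [show V = ⊤ from h, Ideal.comap_top]
      exact Ideal.IsMaximal.ne_top inferInstance this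
  have hXV : ∀ q : Ideal (S ⧸ I), q.IsPrime → (∀ j, mk (X j) ∈ q) → q = V := fun q hq h =>
    (hVm.eq_of_le hq.ne_top (Ideal.map_le_iff_le_comap.2 (vertex_le_of_X_mem h))).symm
  have hreg' : ∀ (q : Ideal (S ⧸ I)) [q.IsPrime], q ≠ V → IsRegularLocalRing (Localization.AtPrime q) :=
    fun q _ hq => hreg q (by
      by_contra h
      push Not at h
      exact hq (hXV q inferInstance h))
  -- graded: minimal primes lie in the vertex
  letI := MvPolynomial.gradedAlgebra (σ := Fin m) (R := k)
  have hhom : I.IsHomogeneous (homogeneousSubmodule (Fin m) k) :=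
    Ideal.homogeneous_span _ _ (by rintro _ ⟨l, rfl⟩; exact ⟨d l, (mem_homogeneousSubmodule _ _).2 (hf l)⟩)
  have hmin : ∀ p ∈ minimalPrimes (S ⧸ I), p ≤ V ∧ p ≠ V := by
    intro p hp
    haveI : p.IsPrime := hp.1.1
    have hpm : p.comap mk ∈ I.minimalPrimes := by
      rw [Ideal.minimalPrimes_eq_comap]
      exact ⟨p, hp, rfl⟩
    have hle : p.comap mk ≤ vertex := by
      intro x hx
      have hh := CMGraded.isHomogeneous_of_mem_minimalPrimes _ hhom hpm 0 hx
      show constantCoeff x = 0
      by_contra hne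
      have hh' : homogeneousComponent 0 x ∈ p.comap mk := by
        rw [← MvPolynomial.decomposition.decompose'_apply]; exact hh
      rw [homogeneousComponent_zero] at hh'
      refine (hpm.1.1).ne_top (Ideal.eq_top_of_isUnit_mem _ hh' ?_)
      exact (isUnit_iff_ne_zero.2 hne).map C
    refine ⟨by rw [← Ideal.map_comap_of_surjective mk Ideal.Quotient.mk_surjective p]; exact Ideal.map_mono hle,
      fun h => ?_⟩
    have h1 : vertex ≤ p.comap mk := by rw [h]; exact Ideal.le_comap_map
    have h2 := Ideal.height_mono h1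
    rw [vertex_height, hP _ hpm] at h2
    have : m ≤ r := by exact_mod_cast h2
    omega
  -- Cohen--Macaulay
  have hGCI : Synt.IsGlobalCI k (S ⧸ I) := CILib.isGlobalCI_of_dim_le (n := m) (c := r) (by omega)
    (Ideal.Quotient.mkₐ k I) f (Ideal.Quotient.mkₐ_surjective k I)
    (by rw [AlgHom.toRingHom_eq_coe, Ideal.Quotient.mkₐ_ker]) (dim_quotient_le hP)
  haveI hCM : LocCoh.IsCohenMacaulayRing (S ⧸ I) :=
    CILib.isCohenMacaulayRing_of_isLCIOver (CILib.isLCIOver_of_isGlobalCI hGCI)
  haveI : IsNoetherianRing (S ⧸ I) := inferInstance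
  refine isDomain_of_punctured V ?_ hmin hreg'
  have h1 := Ideal.height_le_height_add_spanFinrank_of_le hIV
  rw [vertex_height] at h1
  have h2 : I.spanFinrank ≤ r := by
    refine (Submodule.spanFinrank_span_le_ncard_of_finite (Set.finite_range f)).trans ?_
    have h := Set.ncard_image_le (f := f) (Set.finite_univ : (Set.univ : Set (Fin r)).Finite)
    rwa [Set.image_univ, Set.ncard_univ, Nat.card_eq_fintype_card, Fintype.card_fin] at h
  rcases eq_or_ne V.height ⊤ with h | h
  · rw [h]; exact le_top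
  · obtain ⟨a, ha⟩ := ENat.ne_top_iff_exists.1 h
    rw [← ha]
    have h1' : (m : ℕ∞) ≤ V.height + I.spanFinrank := h1
    rw [← ha] at h1'
    have : m ≤ a + I.spanFinrank := by exact_mod_cast h1'
    exact_mod_cast (by omega : 2 ≤ a)

end Groth.Agent.HyperCILib
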