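import Groth.Agent.HyperCILib.Slice
import Groth.Agent.BertiniLib.Affine

/-! Bertini for the system of forms of a given degree on the slices of a cone. -/

set_option autoImplicit false
set_option linter.style.haveILetI false
set_option backward.isDefEq.respectTransparency false
set_option maxHeartbeats 1000000

universe u

open MvPolynomial

namespace Groth.Agent.HyperCILib

variable {k : Type u} [Field k]

/-- Jets persist in a basic open. -/
theorem jets_away [IsAlgClosed k] {A : Type u} [CommRing A] [Algebra k A] [Algebra.FiniteType k A] (h : A)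
    {ι : Type*} [Fintype ι] (σ : ι → A)
    (hj : ∀ m : Ideal A, m.IsMaximal → ∀ t : A, ∃ c : ι → k, ∑ i, algebraMap k A (c i) * σ i - t ∈ m ^ 2)
    (M : Ideal (Localization.Away h)) [M.IsMaximal] (t : Localization.Away h) :
    ∃ c : ι → k, ∑ i, algebraMap k (Localization.Away h) (c i) * algebraMap A (Localization.Away h) (σ i) - t ∈ M ^ 2 := by
  haveI : Algebra.FiniteType A (Localization.Away h) := IsLocalization.finiteType_of_monoid_fg (Submonoid.powers h) _
  haveI : Algebra.FiniteType k (Localization.Away h) := Algebra.FiniteType.trans (S := A) inferInstance inferInstance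
  let n := M.comap (algebraMap A (Localization.Away h))
  haveI : Module.Finite k (Localization.Away h ⧸ M) := by
    letI := Ideal.Quotient.field M
    exact finite_of_finite_type_of_isJacobsonRing k (Localization.Away h ⧸ M)
  have hn : n.IsMaximal := by
    let g : A →ₐ[k] Localization.Away h ⧸ M :=
      (Ideal.Quotient.mkₐ k M).comp (IsScalarTower.toAlgHom k A (Localization.Away h))
    have hk : Function.Bijective (algebraMap k (Localization.Away h ⧸ M)) := by
      haveI : IsDomain (Localization.Away h ⧸ M) := Ideal.Quotient.isDomain M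
      haveI : Algebra.IsIntegral k (Localization.Away h ⧸ M) := Algebra.IsIntegral.of_finite k _
      exact IsAlgClosed.algebraMap_bijective_of_isIntegral
    have hg : Function.Surjective g := fun y => by
      obtain ⟨a, ha⟩ := hk.2 y
      exact ⟨algebraMap k A a, by rw [← ha]; exact g.commutes a⟩
    have he : n = RingHom.ker g.toRingHom := by
      ext a
      show algebraMap A (Localization.Away h) a ∈ M ↔ Ideal.Quotient.mk M (algebraMap A _ a) = 0
      rw [Ideal.Quotient.eq_zero_iff_mem]
    rw [he]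
    letI := Ideal.Quotient.field M
    exact RingHom.ker_isMaximal_of_surjective g.toRingHom hg
  obtain ⟨⟨a, ⟨_, e, rfl⟩⟩, hae⟩ := IsLocalization.surj (Submonoid.powers h) t
  have hhn : h ∉ n := fun hh => (inferInstance : M.IsPrime).ne_top (Ideal.eq_top_of_isUnit_mem _ hh
    (IsLocalization.Away.algebraMap_isUnit (S := Localization.Away h) h))
  have htop : n ^ 2 ⊔ Ideal.span {h ^ e} = ⊤ := by
    rw [← Ideal.span_singleton_pow]
    exact Ideal.pow_sup_pow_eq_top (hn.out.2 _ (lt_of_le_of_ne le_sup_left fun he => hhn (he ▸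
      Ideal.mem_sup_right (Ideal.mem_span_singleton_self h))))
  obtain ⟨z, hz, w, hw, hzw⟩ := Submodule.mem_sup.1 ((Ideal.eq_top_iff_one _).1 htop)
  obtain ⟨y, rfl⟩ := Ideal.mem_span_singleton'.1 hw
  obtain ⟨c, hc⟩ := hj n hn (a * y)
  refine ⟨c, ?_⟩
  have hM : ∀ x ∈ n ^ 2, algebraMap A (Localization.Away h) x ∈ M ^ 2 := fun x hx => by
    have := Ideal.mem_map_of_mem (algebraMap A (Localization.Away h)) hx
    rw [Ideal.map_pow] at this
    exact Ideal.pow_right_mono (Ideal.map_le_iff_le_comap.2 le_rfl) 2 this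
  have key : ∑ i, algebraMap k (Localization.Away h) (c i) * algebraMap A (Localization.Away h) (σ i) - t =
      algebraMap A (Localization.Away h) (∑ i, algebraMap k A (c i) * σ i - a * y) -
        t * algebraMap A (Localization.Away h) z := by
    rw [map_sub, map_sum, map_mul, ← hae]
    simp only [map_mul, ← IsScalarTower.algebraMap_apply k A (Localization.Away h)]
    have h1 : algebraMap A (Localization.Away h) z + algebraMap A (Localization.Away h) y *
        algebraMap A (Localization.Away h) (h ^ e) = 1 := by rw [← map_mul, ← map_add, hzw, map_one]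
    linear_combination t * h1
  rw [key]
  exact sub_mem (hM _ hc) (Ideal.mul_mem_left _ _ (hM _ hz))

/-- Bertini for a jet spanning system on a smooth algebra. -/
theorem exists_member [IsAlgClosed k] {A : Type u} [CommRing A] [Algebra k A] [Algebra.Smooth k A] {N : ℕ}
    (σ : Fin (N + 1) → A)
    (hj : ∀ m : Ideal A, m.IsMaximal → ∀ t : A, ∃ c : Fin (N + 1) → k, ∑ i, algebraMap k A (c i) * σ i - t ∈ m ^ 2) :
    ∃ g : MvPolynomial (Fin (N + 1)) k, g ≠ 0 ∧ ∀ c : Fin (N + 1) → k, MvPolynomial.eval c g ≠ 0 →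
      Algebra.Smooth k (A ⧸ Ideal.span {∑ i, algebraMap k A (c i) * σ i}) := by
  classical
  obtain ⟨S, hS, hSs⟩ := Algebra.Smooth.exists_span_eq_top_isStandardSmooth k A
  obtain ⟨s, hsS, hs1⟩ := Submodule.mem_span_finite_of_mem_span ((Ideal.eq_top_iff_one _).1 hS)
  have H : ∀ h : s, ∃ g : MvPolynomial (Fin (N + 1)) k, g ≠ 0 ∧ ∀ c : Fin (N + 1) → k, MvPolynomial.eval c g ≠ 0 →
      Algebra.Smooth k (Localization.Away (h : A) ⧸ Ideal.span
        {∑ i, algebraMap k (Localization.Away (h : A)) (c i) * algebraMap A (Localization.Away (h : A)) (σ i)}) :=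
    fun h => by
      haveI := hSs h (hsS h.2)
      exact BertiniLib.exists_smooth_member_jet _ fun M hM t => jets_away (h : A) σ hj M t
  choose g hg0 hg using H
  refine ⟨∏ h, g h, Finset.prod_ne_zero_iff.2 fun h _ => hg0 h, fun c hc => ?_⟩
  rw [map_prod] at hc
  let x := ∑ i, algebraMap k A (c i) * σ i
  haveI : Algebra.FinitePresentation k (A ⧸ Ideal.span {x}) :=
    Algebra.FinitePresentation.quotient ⟨{x}, by simp⟩
  refine ⟨Algebra.smoothLocus_eq_univ_iff.1 (Set.eq_univ_of_forall fun q => ?_), inferInstance⟩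
  let mk := Ideal.Quotient.mk (Ideal.span {x})
  obtain ⟨h, hhs, hhq⟩ : ∃ h ∈ s, mk h ∉ q.asIdeal := by
    by_contra hcon
    push Not at hcon
    have h2 : (1 : A) ∈ q.asIdeal.comap mk := (Submodule.span_le (p := q.asIdeal.comap mk)).2 hcon hs1
    exact q.2.ne_top ((Ideal.eq_top_iff_one _).2 (map_one mk ▸ h2))
  let U := Localization.Away h
  let y := ∑ i, algebraMap k U (c i) * algebraMap A U (σ i)
  have hxy : algebraMap A U x = y := by
    simp only [x, y, map_sum, map_mul, ← IsScalarTower.algebraMap_apply k A U]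
  haveI hsm : Algebra.Smooth k (U ⧸ Ideal.span {y}) :=
    hg ⟨h, hhs⟩ c (Finset.prod_ne_zero_iff.1 hc _ (Finset.mem_univ _))
  have hmapspan : (Ideal.span {x}).map (algebraMap A U) = Ideal.span {y} := by
    rw [Ideal.map_span, Set.image_singleton, hxy]
  letI : Algebra (A ⧸ Ideal.span {x}) (U ⧸ Ideal.span {y}) :=
    RingHom.toAlgebra (R := A ⧸ Ideal.span {x}) (S := U ⧸ Ideal.span {y})
      (Ideal.quotientMap (Ideal.span {y}) (algebraMap A U) (Ideal.map_le_iff_le_comap.1 hmapspan.le))
  haveI : IsScalarTower k (A ⧸ Ideal.span {x}) (U ⧸ Ideal.span {y}) := IsScalarTower.of_algebraMap_eq fun a => by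
    show Ideal.Quotient.mk _ (algebraMap k U a) = Ideal.Quotient.mk _ (algebraMap A U (algebraMap k A a))
    exact congrArg _ (IsScalarTower.algebraMap_apply k A U a)
  haveI : IsLocalization (Submonoid.powers (mk h)) (U ⧸ Ideal.span {y}) := by
    let g' : U →+* U ⧸ Ideal.span {y} := Ideal.Quotient.mk (Ideal.span {y})
    have hH : g'.comp (algebraMap A U) = (algebraMap (A ⧸ Ideal.span {x}) (U ⧸ Ideal.span {y})).comp mk := by
      refine RingHom.ext fun z => ?_
      simp only [RingHom.comp_apply]
      exact (Ideal.quotientMap_mk (f := algebraMap A U) (J := Ideal.span {x})).symm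
    have hK : RingHom.ker g' ≤ (RingHom.ker mk).map (algebraMap A U) := by
      rw [show RingHom.ker g' = _ from Ideal.mk_ker, show RingHom.ker mk = _ from Ideal.mk_ker, hmapspan]
    have h' := IsLocalization.of_surjective (R' := A ⧸ Ideal.span {x}) (S' := U ⧸ Ideal.span {y})
      (Submonoid.powers h) U mk Ideal.Quotient.mk_surjective g' Ideal.Quotient.mk_surjective hH hK
    rwa [Submonoid.map_powers] at h'
  haveI : Algebra.Smooth k (Localization.Away (mk h)) := Algebra.Smooth.of_equiv
    ((IsLocalization.algEquiv (Submonoid.powers (mk h)) (U ⧸ Ideal.span {y}) (Localization.Away (mk h))).restrictScalars k)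
  exact Algebra.basicOpen_subset_smoothLocus_iff_smooth.2 ‹_› (show q ∈ PrimeSpectrum.basicOpen (mk h) from hhq)

/-- Closed points are rational. -/
theorem surjective_algebraMap_quot [IsAlgClosed k] {A : Type u} [CommRing A] [Algebra k A]
    [Algebra.FiniteType k A] (M : Ideal A) [M.IsMaximal] : Function.Surjective (algebraMap k (A ⧸ M)) := by
  haveI : Module.Finite k (A ⧸ M) := by
    letI := Ideal.Quotient.field M
    exact finite_of_finite_type_of_isJacobsonRing k (A ⧸ M)
  haveI : IsDomain (A ⧸ M) := Ideal.Quotient.isDomain M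
  haveI : Algebra.IsIntegral k (A ⧸ M) := Algebra.IsIntegral.of_finite k _
  exact IsAlgClosed.algebraMap_bijective_of_isIntegral.2

variable {m : ℕ}

/-- The products of `d` variables. -/
noncomputable def mono (d : ℕ) (a : Fin d → Fin m) : MvPolynomial (Fin m) k := ∏ l, X (a l)

theorem mono_isHomogeneous (d : ℕ) (a : Fin d → Fin m) : (mono (k := k) d a).IsHomogeneous d := by
  have h := MvPolynomial.IsHomogeneous.prod (R := k) Finset.univ (fun l => X (a l)) (fun _ => 1)
    (fun l _ => isHomogeneous_X k (a l))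
  simpa [mono] using h

/-- The general form with coefficient vector `c`. -/
noncomputable def form (d : ℕ) (c : (Fin d → Fin m) → k) : MvPolynomial (Fin m) k := ∑ a, C (c a) * mono d a

theorem form_isHomogeneous (d : ℕ) (c : (Fin d → Fin m) → k) : (form d c).IsHomogeneous d :=
  IsHomogeneous.sum _ _ _ fun a _ => (mono_isHomogeneous d a).C_mul _

theorem form_jets [IsAlgClosed k] (j : Fin m) (d : ℕ) (hd : 0 < d) (K : Ideal (MvPolynomial (Fin m) k))
    (hK : X j - 1 ∈ K) (M : Ideal (MvPolynomial (Fin m) k ⧸ K)) [M.IsMaximal] (t : MvPolynomial (Fin m) k ⧸ K) :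
    ∃ c : (Fin d → Fin m) → k, Ideal.Quotient.mk K (form d c) - t ∈ M ^ 2 := by
  classical
  have hk := surjective_algebraMap_quot (k := k) M
  let x : Fin m → MvPolynomial (Fin m) k ⧸ K := fun l => Ideal.Quotient.mk K (X l)
  let Φ : ((Fin d → Fin m) → k) →ₗ[k] MvPolynomial (Fin m) k ⧸ K :=
    { toFun := fun c => Ideal.Quotient.mk K (form d c)
      map_add' := fun c c' => by
        rw [← map_add]; congr 1; simp [form, add_mul, Finset.sum_add_distrib]
      map_smul' := fun r c => by
        show Ideal.Quotient.mk K (form d (r • c)) = r • Ideal.Quotient.mk K (form d c)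
        rw [← Ideal.Quotient.mkₐ_eq_mk k, ← map_smul]
        congr 1
        simp [form, Finset.smul_sum, MvPolynomial.smul_eq_C_mul, mul_assoc] }
  let W : Submodule k (MvPolynomial (Fin m) k ⧸ K) := LinearMap.range Φ ⊔ (M ^ 2).restrictScalars k
  obtain ⟨d', rfl⟩ : ∃ d', d = d' + 1 := ⟨d - 1, by omega⟩
  have hxj : x j = 1 := by
    show Ideal.Quotient.mk K (X j) = 1
    rw [← map_one (Ideal.Quotient.mk K)]
    exact Ideal.Quotient.eq.2 hK
  have hlin : ∀ l, x l ∈ W := fun l => by
    refine Submodule.mem_sup_left ⟨fun a => if a = Fin.cons l (fun _ => j) then 1 else 0, ?_⟩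
    show Ideal.Quotient.mk K (form (d' + 1) _) = x l
    rw [form, Finset.sum_eq_single (Fin.cons l (fun _ => j))]
    · rw [if_pos rfl, map_one, one_mul, mono, Fin.prod_univ_succ, map_mul]
      simp only [Fin.cons_zero, Fin.cons_succ, Finset.prod_const, map_pow]
      show x l * x j ^ _ = x l
      rw [hxj, one_pow, mul_one]
    · intro b _ hb; rw [if_neg hb, map_zero, zero_mul]
    · intro h; exact absurd (Finset.mem_univ _) h
  have h1 : (1 : MvPolynomial (Fin m) k ⧸ K) ∈ W := hxj ▸ hlin j
  let L : Submodule k (MvPolynomial (Fin m) k ⧸ K) :=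
    Submodule.span k (insert 1 (Set.range x)) ⊔ (M ^ 2).restrictScalars k
  have hLW : L ≤ W := sup_le (Submodule.span_le.2 (by
    rintro v (rfl | ⟨l, rfl⟩)
    · exact h1
    · exact hlin l)) le_sup_right
  have hmul : ∀ l, ∀ v ∈ L, v * x l ∈ L := by
    intro l v hv
    obtain ⟨v1, hv1, w, hw, rfl⟩ := Submodule.mem_sup.1 hv
    rw [add_mul]
    refine add_mem ?_ (Submodule.mem_sup_right (Ideal.mul_mem_right _ _ hw : w * x l ∈ M ^ 2))
    clear hv
    induction hv1 using Submodule.span_induction with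
    | mem v hv =>
      rcases hv with rfl | ⟨i, rfl⟩
      · rw [one_mul]; exact Submodule.mem_sup_left (Submodule.subset_span (Or.inr ⟨l, rfl⟩))
      · obtain ⟨a, ha⟩ := hk (Ideal.Quotient.mk M (x i))
        obtain ⟨b, hb⟩ := hk (Ideal.Quotient.mk M (x l))
        have hai : x i - algebraMap k _ a ∈ M := Ideal.Quotient.eq.1 ha.symm
        have hbl : x l - algebraMap k _ b ∈ M := Ideal.Quotient.eq.1 hb.symm
        rw [show x i * x l = (x i - algebraMap k _ a) * (x l - algebraMap k _ b) +
          (a • x l + b • x i - (a * b) • (1 : MvPolynomial (Fin m) k ⧸ K)) by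
            have hs : ∀ (r : k) (z : MvPolynomial (Fin m) k ⧸ K), r • z = algebraMap k _ r * z :=
              fun r z => Algebra.smul_def r z
            simp only [hs, map_mul]; ring]
        refine add_mem (Submodule.mem_sup_right (by
          show (x i - algebraMap k _ a) * (x l - algebraMap k _ b) ∈ M ^ 2
          rw [pow_two]; exact Ideal.mul_mem_mul hai hbl)) (Submodule.mem_sup_left ?_)
        exact sub_mem (add_mem (Submodule.smul_mem _ _ (Submodule.subset_span (Or.inr ⟨l, rfl⟩)))
          (Submodule.smul_mem _ _ (Submodule.subset_span (Or.inr ⟨i, rfl⟩))))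
          (Submodule.smul_mem _ _ (Submodule.subset_span (Or.inl rfl)))
    | zero => rw [zero_mul]; exact zero_mem _
    | add a b _ _ ha hb => rw [add_mul]; exact add_mem ha hb
    | smul r a _ ha => rw [smul_mul_assoc]; exact Submodule.smul_mem _ _ ha
  have hall : ∀ f : MvPolynomial (Fin m) k, Ideal.Quotient.mk K f ∈ L := by
    intro f
    induction f using MvPolynomial.induction_on with
    | C r =>
      rw [show Ideal.Quotient.mk K (C r) = r • (1 : MvPolynomial (Fin m) k ⧸ K) from
        (show Ideal.Quotient.mk K (C r) = algebraMap k _ r from rfl).trans (Algebra.algebraMap_eq_smul_one r)]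
      exact Submodule.mem_sup_left (Submodule.smul_mem _ _ (Submodule.subset_span (Or.inl rfl)))
    | add p q hp hq => rw [map_add]; exact add_mem hp hq
    | mul_X p l hp => rw [map_mul]; exact hmul l _ hp
  obtain ⟨f, rfl⟩ := Ideal.Quotient.mk_surjective t
  obtain ⟨_, ⟨c, rfl⟩, w, hw, hcw⟩ := Submodule.mem_sup.1 (hLW (hall f))
  refine ⟨c, ?_⟩
  show Φ c - Ideal.Quotient.mk K f ∈ M ^ 2
  rw [← hcw, sub_add_cancel_left]
  exact (M ^ 2).neg_mem hw

/-- A general form cuts a smooth slice in a smooth slice. -/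
theorem exists_slice_member [IsAlgClosed k] (I : Ideal (MvPolynomial (Fin m) k)) (j : Fin m)
    [Algebra.Smooth k (MvPolynomial (Fin m) k ⧸ sliceIdeal I j)] (d : ℕ) (hd : 0 < d) :
    ∃ g : MvPolynomial (Fin d → Fin m) k, g ≠ 0 ∧ ∀ c : (Fin d → Fin m) → k, MvPolynomial.eval c g ≠ 0 →
      Algebra.Smooth k (MvPolynomial (Fin m) k ⧸ sliceIdeal (I ⊔ Ideal.span {form d c}) j) := by
  classical
  haveI : Nonempty (Fin m) := ⟨j⟩
  obtain ⟨N, hN⟩ : ∃ N, Fintype.card (Fin d → Fin m) = N + 1 :=
    ⟨_, (Nat.succ_pred_eq_of_pos Fintype.card_pos).symm⟩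
  let e : (Fin d → Fin m) ≃ Fin (N + 1) := (Fintype.equivFin _).trans (finCongr hN)
  let K := sliceIdeal I j
  have hsum : ∀ c : Fin (N + 1) → k, ∑ i, algebraMap k (MvPolynomial (Fin m) k ⧸ K) (c i) *
      Ideal.Quotient.mk K (mono d (e.symm i)) = Ideal.Quotient.mk K (form d fun a => c (e a)) := fun c => by
    rw [form, map_sum]
    exact Fintype.sum_equiv e.symm _ _ fun i => by rw [map_mul, Equiv.apply_symm_apply]; rfl
  obtain ⟨g, hg0, hg⟩ := exists_member (fun i => Ideal.Quotient.mk K (mono d (e.symm i))) fun M hM t => by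
    obtain ⟨c, hc⟩ := form_jets j d hd K (Ideal.mem_sup_right (Ideal.mem_span_singleton_self _)) M t
    refine ⟨fun i => c (e.symm i), ?_⟩
    rw [hsum, show (fun a => c (e.symm (e a))) = c from funext fun a => by rw [Equiv.symm_apply_apply]]
    exact hc
  refine ⟨rename e.symm g, fun h => hg0 (rename_injective _ e.symm.injective (by rw [h, map_zero])), fun c hc => ?_⟩
  rw [eval_rename] at hc
  haveI := hg _ hc
  have hx : ∑ i, algebraMap k (MvPolynomial (Fin m) k ⧸ K) ((c ∘ e.symm) i) * Ideal.Quotient.mk K (mono d (e.symm i)) =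
      Ideal.Quotient.mk K (form d c) :=
    (hsum _).trans (by simp [Function.comp])
  have hI : K ⊔ Ideal.span {form d c} = sliceIdeal (I ⊔ Ideal.span {form d c}) j := by
    simp only [K, sliceIdeal]; ac_rfl
  let E1 : ((MvPolynomial (Fin m) k ⧸ K) ⧸ Ideal.span {∑ i, algebraMap k (MvPolynomial (Fin m) k ⧸ K) ((c ∘ e.symm) i) *
      Ideal.Quotient.mk K (mono d (e.symm i))}) ≃ₐ[k] (MvPolynomial (Fin m) k ⧸ sliceIdeal (I ⊔ Ideal.span {form d c}) j) :=
    ((Ideal.quotientEquivAlgOfEq k (by rw [Ideal.map_span, Set.image_singleton, hx]; rfl)).trans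
      (DoubleQuot.quotQuotEquivQuotSupₐ k K (Ideal.span {form d c}))).trans (Ideal.quotientEquivAlgOfEq k hI)
  exact Algebra.Smooth.of_equiv (A := (MvPolynomial (Fin m) k ⧸ K) ⧸ Ideal.span {∑ i, algebraMap k (MvPolynomial (Fin m) k ⧸ K) ((c ∘ e.symm) i) *
      Ideal.Quotient.mk K (mono d (e.symm i))}) E1

/-- The slices of the zero ideal are affine spaces. -/
theorem smooth_slice_bot (j : Fin m) : Algebra.Smooth k (MvPolynomial (Fin m) k ⧸ sliceIdeal (⊥ : Ideal (MvPolynomial (Fin m) k)) j) := by
  classical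
  let K := sliceIdeal (⊥ : Ideal (MvPolynomial (Fin m) k)) j
  let f₀ : MvPolynomial (Fin m) k →ₐ[k] MvPolynomial {l : Fin m // l ≠ j} k :=
    aeval fun l => if h : l = j then 1 else X ⟨l, h⟩
  let f : (MvPolynomial (Fin m) k ⧸ K) →ₐ[k] MvPolynomial {l : Fin m // l ≠ j} k :=
    Ideal.Quotient.liftₐ K f₀ (by
      intro a ha
      refine RingHom.mem_ker.1 ((sup_le bot_le ?_ : K ≤ RingHom.ker f₀.toRingHom) ha)
      rw [Ideal.span_singleton_le_iff_mem]
      show f₀ (X j - 1) = 0
      rw [map_sub, map_one, aeval_X, dif_pos rfl, sub_self])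
  let g : MvPolynomial {l : Fin m // l ≠ j} k →ₐ[k] MvPolynomial (Fin m) k ⧸ K :=
    aeval fun l => Ideal.Quotient.mk K (X l.1)
  have h1 : f.comp g = AlgHom.id k _ := MvPolynomial.algHom_ext fun l => by
    show f (g (X l)) = X l
    rw [aeval_X]
    show f₀ (X l.1) = X l
    rw [aeval_X, dif_neg l.2]
  have h2 : g.comp f = AlgHom.id k _ := Ideal.Quotient.algHom_ext _ (MvPolynomial.algHom_ext fun l => by
    show g (f₀ (X l)) = Ideal.Quotient.mk K (X l)
    rw [aeval_X]
    by_cases h : l = j
    · subst h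
      rw [dif_pos rfl, map_one, ← map_one (Ideal.Quotient.mk K)]
      exact (Ideal.Quotient.eq.2 (Ideal.mem_sup_right (Ideal.mem_span_singleton_self _))).symm
    · rw [dif_neg h, aeval_X])
  haveI : Algebra.Smooth k (MvPolynomial {l : Fin m // l ≠ j} k) := ⟨inferInstance, inferInstance⟩
  exact Algebra.Smooth.of_equiv (AlgEquiv.ofAlgHom g f h2 h1)

end Groth.Agent.HyperCILib
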