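import Mathlib
import Groth.Agent.GenSmoothPerf.Basic

/-! A homogeneous ideal with smooth slices `x_j = 1` has a regular punctured cone. -/

set_option autoImplicit false
set_option linter.style.haveILetI false

universe u

open MvPolynomial

namespace Groth.Agent.HyperCILib

variable {k : Type u} [Field k] {m : ℕ}

/-- The slice `x_j = 1` of the cone of `I`. -/
noncomputable abbrev sliceIdeal (I : Ideal (MvPolynomial (Fin m) k)) (j : Fin m) : Ideal (MvPolynomial (Fin m) k) :=
  I ⊔ Ideal.span {X j - 1}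

theorem eval_scale {B : Type u} [CommRing B] [Algebra k B] {d : ℕ} {f : MvPolynomial (Fin m) k}
    (hf : f.IsHomogeneous d) (c : B) (v : Fin m → B) :
    aeval (fun l => c * v l) f = c ^ d * aeval v f := by
  rw [aeval_def, aeval_def, eval₂_eq, eval₂_eq, Finset.mul_sum]
  refine Finset.sum_congr rfl fun e he => ?_
  have hd : ∑ i ∈ e.support, e i = d := by
    rw [← hf (MvPolynomial.mem_support_iff.1 he), Finsupp.weight_apply]
    simp [Finsupp.sum]
  rw [Finset.prod_congr rfl fun i _ => mul_pow c (v i) (e i), Finset.prod_mul_distrib,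
    Finset.prod_pow_eq_pow_sum, hd]
  ring

theorem lift_of_ker {P A B : Type u} [CommRing P] [CommRing A] [CommRing B] [Algebra k P] [Algebra k A] [Algebra k B]
    (q : P →ₐ[k] A) (hq : Function.Surjective q) (f : P →ₐ[k] B)
    (h : RingHom.ker q.toRingHom ≤ RingHom.ker f.toRingHom) : ∃ g : A →ₐ[k] B, g.comp q = f :=
  ⟨(Ideal.Quotient.liftₐ _ f h).comp (Ideal.quotientKerAlgEquivOfSurjective hq).symm.toAlgHom, AlgHom.ext fun x => by
    have e : (Ideal.quotientKerAlgEquivOfSurjective hq).symm (q x) = Ideal.Quotient.mk _ x := by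
      rw [AlgEquiv.symm_apply_eq]; rfl
    show Ideal.Quotient.liftₐ _ f h ((Ideal.quotientKerAlgEquivOfSurjective hq).symm (q x)) = f x
    rw [e]; rfl⟩

theorem regular_of_slice_aux [PerfectField k] (I : Ideal (MvPolynomial (Fin m) k))
    (T : Set (MvPolynomial (Fin m) k)) (hI : I = Ideal.span T) (hT : ∀ f ∈ T, ∃ d, f.IsHomogeneous d) (j : Fin m)
    (A R L C : Type u) [CommRing A] [Algebra k A] [Algebra.Smooth k A] [CommRing R] [Algebra k R]
    (qA : MvPolynomial (Fin m) k →ₐ[k] A) (hA : Function.Surjective qA) (hAk : RingHom.ker qA.toRingHom = sliceIdeal I j)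
    (qR : MvPolynomial (Fin m) k →ₐ[k] R) (hR : Function.Surjective qR) (hRk : RingHom.ker qR.toRingHom = I)
    [CommRing L] [Algebra k L] [Algebra (Polynomial A) L] [IsScalarTower k (Polynomial A) L]
    [IsLocalization.Away (Polynomial.X : Polynomial A) L]
    [CommRing C] [Algebra k C] [Algebra R C] [IsScalarTower k R C] [IsLocalization.Away (qR (X j)) C]
    (Q : Ideal R) [Q.IsPrime] (hQ : qR (X j) ∉ Q) :
    IsRegularLocalRing (Localization.AtPrime Q) := by
  classical
  let u : L := algebraMap (Polynomial A) L (Polynomial.X : Polynomial A)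
  have hu : IsUnit u := IsLocalization.Away.algebraMap_isUnit (S := L) (Polynomial.X : Polynomial A)
  let π : MvPolynomial (Fin m) k →ₐ[k] L :=
    (IsScalarTower.toAlgHom k (Polynomial A) L).comp ((IsScalarTower.toAlgHom k A (Polynomial A)).comp qA)
  let ρ : MvPolynomial (Fin m) k →ₐ[k] C := (IsScalarTower.toAlgHom k R C).comp qR
  let w : Fin m → L := fun l => π (X l)
  let v : Fin m → C := fun l => ρ (X l)
  let cx : C := algebraMap R C (qR (X j))
  have hcx : IsUnit cx := IsLocalization.Away.algebraMap_isUnit (S := C) (qR (X j))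
  let ci : C := (hcx.unit⁻¹ : Cˣ)
  have hci : ci * cx = 1 := hcx.val_inv_mul
  have hIk : ∀ g ∈ T, qR g = 0 := fun g hg =>
    RingHom.mem_ker.1 (show g ∈ RingHom.ker qR.toRingHom by rw [hRk, hI]; exact Ideal.subset_span hg)
  have hIA : ∀ g ∈ T, qA g = 0 := fun g hg =>
    RingHom.mem_ker.1 (show g ∈ RingHom.ker qA.toRingHom by
      rw [hAk]; exact (le_sup_left : I ≤ sliceIdeal I j) (hI ▸ Ideal.subset_span hg : g ∈ I))
  let a₀ : MvPolynomial (Fin m) k →ₐ[k] C := aeval fun l => ci * v l
  obtain ⟨a₁, ha₁⟩ := lift_of_ker qA hA a₀ (by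
    rw [hAk]
    refine sup_le ?_ ?_
    · rw [hI, Ideal.span_le]
      intro g hg
      obtain ⟨d, hd⟩ := hT g hg
      show aeval (fun l => ci * v l) g = 0
      rw [eval_scale hd, show aeval (fun l => v l) = ρ from (aeval_unique ρ).symm]
      show ci ^ d * algebraMap R C (qR g) = 0
      rw [hIk g hg, map_zero, mul_zero]
    · rw [Ideal.span_singleton_le_iff_mem]
      show a₀ (X j - 1) = 0
      rw [map_sub, map_one, aeval_X, sub_eq_zero]
      exact hci)
  let φ : L →+* C := IsLocalization.Away.lift (Polynomial.X : Polynomial A)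
    (g := Polynomial.eval₂RingHom a₁.toRingHom cx)
    (by show IsUnit (Polynomial.eval₂ a₁.toRingHom cx Polynomial.X); rw [Polynomial.eval₂_X]; exact hcx)
  let b₀ : MvPolynomial (Fin m) k →ₐ[k] L := aeval fun l => u * w l
  obtain ⟨b₁, hb₁⟩ := lift_of_ker qR hR b₀ (by
    rw [hRk, hI, Ideal.span_le]
    intro g hg
    obtain ⟨d, hd⟩ := hT g hg
    show aeval (fun l => u * w l) g = 0
    rw [eval_scale hd, show aeval (fun l => w l) = π from (aeval_unique π).symm]
    show u ^ d * algebraMap (Polynomial A) L (algebraMap A (Polynomial A) (qA g)) = 0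
    rw [hIA g hg, map_zero, map_zero, mul_zero])
  have hwj : w j = 1 := by
    show algebraMap (Polynomial A) L (algebraMap A (Polynomial A) (qA (X j))) = 1
    rw [show qA (X j) = 1 from by
      rw [← map_one qA, ← sub_eq_zero, ← map_sub]
      exact RingHom.mem_ker.1 (show X j - 1 ∈ RingHom.ker qA.toRingHom by
        rw [hAk]; exact le_sup_right (a := I) (Ideal.mem_span_singleton_self _)), map_one, map_one]
  have hb₁X : ∀ l, b₁ (qR (X l)) = u * w l := fun l => (congrArg (fun f => f (X l)) hb₁).trans (aeval_X _ l)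
  have ha₁X : ∀ l, a₁ (qA (X l)) = ci * v l := fun l => (congrArg (fun f => f (X l)) ha₁).trans (aeval_X _ l)
  let ψ : C →+* L := IsLocalization.Away.lift (qR (X j)) (g := b₁.toRingHom)
    (show IsUnit (b₁ (qR (X j))) by rw [hb₁X, hwj, mul_one]; exact hu)
  have hψR : ∀ r : R, ψ (algebraMap R C r) = b₁ r := fun r => IsLocalization.Away.lift_eq _ _ r
  have hψx : ψ cx = u := (hψR _).trans (by rw [hb₁X, hwj, mul_one])
  have hψi : ψ ci * u = 1 := by rw [← hψx, ← map_mul, hci, map_one]
  have hψv : ∀ l, ψ (v l) = u * w l := fun l => (hψR _).trans (hb₁X l)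
  have hφA : ∀ p : Polynomial A, φ (algebraMap (Polynomial A) L p) = Polynomial.eval₂ a₁.toRingHom cx p := fun p =>
    IsLocalization.Away.lift_eq _ _ p
  have hφu : φ u = cx := (hφA _).trans (Polynomial.eval₂_X _ _)
  have hφw : ∀ l, φ (w l) = ci * v l := fun l => (hφA _).trans ((Polynomial.eval₂_C _ _).trans (ha₁X l))
  have hφk : ∀ a : k, φ (algebraMap k L a) = algebraMap k C a := fun a => by
    rw [IsScalarTower.algebraMap_apply k (Polynomial A) L, IsScalarTower.algebraMap_apply k A (Polynomial A)]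
    exact (hφA _).trans ((Polynomial.eval₂_C _ _).trans (a₁.commutes a))
  have hψk : ∀ a : k, ψ (algebraMap k C a) = algebraMap k L a := fun a => by
    rw [IsScalarTower.algebraMap_apply k R C]
    exact (hψR _).trans (b₁.commutes a)
  let φa : L →ₐ[k] C := { φ with commutes' := hφk }
  let ψa : C →ₐ[k] L := { ψ with commutes' := hψk }
  have h1 : ψa.comp φa = AlgHom.id k L := by
    refine AlgHom.coe_ringHom_injective (IsLocalization.ringHom_ext (Submonoid.powers (Polynomial.X : Polynomial A))
      (Polynomial.ringHom_ext (fun a => ?_) ?_))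
    · obtain ⟨f, rfl⟩ := hA a
      show ((ψa.comp φa).comp π) f = π f
      exact congrArg (fun g => g f) (MvPolynomial.algHom_ext (f := (ψa.comp φa).comp π) (g := π) fun l => by
        show ψ (φ (w l)) = w l
        rw [hφw, map_mul, hψv, ← mul_assoc, hψi, one_mul])
    · show ψ (φ u) = u
      rw [hφu, hψx]
  have h2 : φa.comp ψa = AlgHom.id k C := by
    refine AlgHom.coe_ringHom_injective (IsLocalization.ringHom_ext (Submonoid.powers (qR (X j))) (RingHom.ext fun r => ?_))
    obtain ⟨f, rfl⟩ := hR r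
    show ((φa.comp ψa).comp ρ) f = ρ f
    exact congrArg (fun g => g f) (MvPolynomial.algHom_ext (f := (φa.comp ψa).comp ρ) (g := ρ) fun l => by
      show φ (ψ (v l)) = v l
      rw [hψv, map_mul, hφu, hφw, ← mul_assoc, mul_comm cx ci, hci, one_mul])
  let e : L ≃ₐ[k] C := AlgEquiv.ofAlgHom φa ψa h2 h1
  haveI : Algebra.Smooth A (Polynomial A) := ⟨inferInstance, inferInstance⟩
  haveI : Algebra.Smooth k (Polynomial A) := Algebra.Smooth.comp k A (Polynomial A)
  haveI : Algebra.Smooth (Polynomial A) L := Algebra.Smooth.of_isLocalization_Away (Polynomial.X : Polynomial A)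
  haveI : Algebra.Smooth k L := Algebra.Smooth.comp k (Polynomial A) L
  haveI : Algebra.Smooth k C := Algebra.Smooth.of_equiv e
  have hd : Disjoint (Submonoid.powers (qR (X j)) : Set R) (Q : Set R) :=
    Set.disjoint_left.2 fun x ⟨s, hs⟩ hx => hQ (‹Q.IsPrime›.mem_of_pow_mem s (by rw [← hs] at hx; exact hx))
  let P := Q.map (algebraMap R C)
  haveI hP : P.IsPrime := IsLocalization.isPrime_of_isPrime_disjoint (Submonoid.powers _) C Q ‹_› hd
  haveI : Algebra.IsSmoothAt k P := by
    have := Algebra.smoothLocus_eq_univ_iff.2 (inferInstance : Algebra.Smooth k C).formallySmooth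
    exact (Set.eq_univ_iff_forall.1 this ⟨P, hP⟩)
  have hreg : IsRegularLocalRing (Localization.AtPrime P) := (GenSmoothPerf.isSmoothAt_iff_regular P).1 ‹_›
  haveI := hreg
  have hc : P.comap (algebraMap R C) = Q :=
    IsLocalization.comap_map_of_isPrime_disjoint (Submonoid.powers _) C ‹_› hd
  haveI : IsLocalization.AtPrime (Localization.AtPrime P) Q := by
    haveI : (P.comap (algebraMap R C)).IsPrime := Ideal.IsPrime.comap _
    have key : ∀ J : Ideal R, ∀ _ : J.IsPrime, J = Q → IsLocalization J.primeCompl (Localization.AtPrime P) →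
        IsLocalization Q.primeCompl (Localization.AtPrime P) := by
      intro J hJ hJQ h; subst hJQ; exact h
    exact key _ inferInstance hc
      (IsLocalization.isLocalization_isLocalization_atPrime_isLocalization (Submonoid.powers (qR (X j)))
        (Localization.AtPrime P) P)
  exact IsRegularLocalRing.of_ringEquiv
    (IsLocalization.algEquiv Q.primeCompl (Localization.AtPrime P) (Localization.AtPrime Q)).toRingEquiv

theorem regular_of_slice [PerfectField k] (I : Ideal (MvPolynomial (Fin m) k))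
    (T : Set (MvPolynomial (Fin m) k)) (hI : I = Ideal.span T) (hT : ∀ f ∈ T, ∃ d, f.IsHomogeneous d)
    (j : Fin m) [hs : Algebra.Smooth k (MvPolynomial (Fin m) k ⧸ sliceIdeal I j)]
    (Q : Ideal (MvPolynomial (Fin m) k ⧸ I)) [hQp : Q.IsPrime] (hQ : Ideal.Quotient.mk I (X j) ∉ Q) :
    IsRegularLocalRing (Localization.AtPrime Q) :=
  regular_of_slice_aux I T hI hT j (MvPolynomial (Fin m) k ⧸ sliceIdeal I j) (MvPolynomial (Fin m) k ⧸ I)
    (Localization.Away (Polynomial.X : Polynomial (MvPolynomial (Fin m) k ⧸ sliceIdeal I j)))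
    (Localization.Away (Ideal.Quotient.mkₐ k I (X j)))
    (Ideal.Quotient.mkₐ k _) (Ideal.Quotient.mkₐ_surjective k _) (Ideal.Quotient.mkₐ_ker k _)
    (Ideal.Quotient.mkₐ k I) (Ideal.Quotient.mkₐ_surjective k _) (Ideal.Quotient.mkₐ_ker k _) Q hQ

end Groth.Agent.HyperCILib
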